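import Groth.Agent.L06.CplQuotient
import Groth.Agent.L06.FormSmoothPS
import Groth.Agent.L01.CohenRing
import Mathlib.RingTheory.MvPowerSeries.Basic

/-! The completion of a hypersurface in a regular local ring with a coefficient field. -/

set_option autoImplicit false
set_option linter.style.haveILetI false

universe u

open IsLocalRing

noncomputable section

namespace Groth.L05.OrdQuad

theorem exists_completion_equiv {A S : Type u} [CommRing A] 
    [CommRing S] [IsLocalRing S] [IsNoetherianRing S] [IsRegularLocalRing A]
    {k : Type u} [Field k] (F₀ : k →+* A) (hF : Function.Surjective ((residue A).comp F₀))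
    {N : ℕ} (t : Fin N → A) (ht : Ideal.span (Set.range t) = maximalIdeal A)
    (hdim : ringKrullDim A = N) (q : MvPolynomial (Fin N) k)
    (p : A →+* S) (hp : Function.Surjective p)
    (hker : RingHom.ker p = Ideal.span {MvPolynomial.eval₂ F₀ t q}) :
    ∃ e : AdicCompletion (maximalIdeal S) S ≃+* (MvPowerSeries (Fin N) k ⧸ Ideal.span {(q : MvPowerSeries (Fin N) k)}),
      ∀ c : k, e (algebraMap S _ (p (F₀ c))) = Ideal.Quotient.mk _ (MvPowerSeries.C c) := by
  let R := AdicCompletion (maximalIdeal A) A
  haveI : IsRegularLocalRing R := (Groth.L01.CompletionReg.isRegularLocalRing_iff_completion A).mp inferInstance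
  have hcomp : (maximalIdeal A).map (algebraMap A R) = maximalIdeal R :=
    Groth.L01.AnalUnram.completion_map_maximalIdeal A
  let F : k →+* R := (algebraMap A R).comp F₀
  have hFs : Function.Surjective ((residue R).comp F) := fun y => by
    obtain ⟨z, rfl⟩ := (AdicCompletion.residueField_map_bijective A).2 y
    obtain ⟨c, hc⟩ := hF z
    refine ⟨c, ?_⟩
    rw [← hc]
    rfl
  have hx : Ideal.span (Set.range fun i => algebraMap A R (t i)) = maximalIdeal R := by
    refine Eq.trans ?_ hcomp
    refine Eq.trans ?_ (congrArg (Ideal.map (algebraMap A R)) ht)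
    rw [Ideal.map_span, ← Set.range_comp]
    rfl
  obtain ⟨φ, hC, hX, hs⟩ := Groth.L01.Cohen.exists_surjective_powerSeries F hFs _ hx
  haveI : IsRegularLocalRing (MvPowerSeries (Fin N) k) := Groth.L01.PowSerReg.isRegularLocalRing k N
  haveI := Groth.L01.isDomain_of_regular (MvPowerSeries (Fin N) k)
  have hdimR : ringKrullDim R = ringKrullDim A := by
    exact Groth.L01.CompletionReg.ringKrullDim_completion A
  have hinj : Function.Injective φ := Groth.L06.FormSmooth.injective_of_surjective_of_dim φ hs (by
    rw [hdimR, hdim, Groth.L01.PowSerReg.ringKrullDim_eq k N])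
  let ψ : MvPowerSeries (Fin N) k ≃+* R := RingEquiv.ofBijective φ ⟨hinj, hs⟩
  have hq : φ (q : MvPowerSeries (Fin N) k) = algebraMap A R (MvPolynomial.eval₂ F₀ t q) := by
    have h : φ.comp (MvPolynomial.coeToMvPowerSeries.ringHom (σ := Fin N) (R := k)) =
        (algebraMap A R).comp (MvPolynomial.eval₂Hom F₀ t) := by
      refine MvPolynomial.ringHom_ext (fun c => ?_) fun i => ?_
      · simpa [F] using RingHom.congr_fun hC c
      · simpa using hX i
    exact RingHom.congr_fun h q
  obtain ⟨e, he⟩ := Groth.L06.CplQuotient.exists_completionQuotEquiv_compat p hp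
  have hI : (RingHom.ker p).map (algebraMap A R) =
      (Ideal.span {(q : MvPowerSeries (Fin N) k)}).map ψ.toRingHom := by
    rw [hker, Ideal.map_span, Ideal.map_span, Set.image_singleton, Set.image_singleton, ← hq]
    rfl
  refine ⟨e.symm.trans (Ideal.quotientEquiv _ _ ψ hI).symm, fun c => ?_⟩
  rw [RingEquiv.trans_apply, ← he (F₀ c), e.symm_apply_apply, RingEquiv.symm_apply_eq]
  exact congrArg (Ideal.Quotient.mk _) (RingHom.congr_fun hC c).symm

end Groth.L05.OrdQuad
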