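import Groth.Agent.L21.PlaneCurve.SmoothHyp
import Groth.Agent.L21.SmoothChart

/-! A quadratic form which is non-degenerate in every characteristic. -/

set_option autoImplicit false
set_option linter.style.haveILetI false
set_option backward.isDefEq.respectTransparency false

universe u

open MvPolynomial CategoryTheory AlgebraicGeometry

noncomputable section

namespace Groth.L05.OrdQuad

open Groth.L16.ProjSpace (dehom ChartVar dehom_X_self dehom_X_ne)

variable (k : Type u) [Field k] (m : ℕ)

/-- The summands of the form `X₀X₁ + X₂X₃ + ⋯ (+ X_m²)`. -/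
def qterm (j : Fin (m + 1)) : MvPolynomial (Fin (m + 1)) k :=
  if (j : ℕ) % 2 = 0 then (if h : (j : ℕ) + 1 < m + 1 then X j * X ⟨j + 1, h⟩ else X j ^ 2) else 0

/-- The form `X₀X₁ + X₂X₃ + ⋯ (+ X_m²)`. -/
def qpoly : MvPolynomial (Fin (m + 1)) k := ∑ j, qterm k m j

theorem qpoly_homogeneous : (qpoly k m).IsHomogeneous 2 := by
  refine IsHomogeneous.sum _ _ _ fun j _ => ?_
  rw [qterm]
  split_ifs with h1 h2
  · exact (isHomogeneous_X k _).mul (isHomogeneous_X k _)
  · exact (isHomogeneous_X k _).pow 2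
  · exact isHomogeneous_zero _ _ _

/-- The form as an element of `LefPen.Form`. -/
def qform : LefPen.Form m k 2 := ⟨qpoly k m, (mem_homogeneousSubmodule 2 _).2 (qpoly_homogeneous k m)⟩

variable {k m}

theorem pderiv_qpoly_next {j : Fin (m + 1)} (hj : (j : ℕ) % 2 = 0) (h : (j : ℕ) + 1 < m + 1) :
    pderiv (⟨j + 1, h⟩ : Fin (m + 1)) (qpoly k m) = X j := by
  rw [qpoly, map_sum, Finset.sum_eq_single j]
  · rw [qterm, if_pos hj, dif_pos h, pderiv_mul, pderiv_X_self,
      pderiv_X_of_ne (Fin.ne_of_val_ne (by simp)), zero_mul, mul_one, zero_add]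
  · intro l _ hl
    rw [qterm]
    have hl' : (l : ℕ) ≠ j := fun e => hl (Fin.ext e)
    split_ifs with h1 h2
    · rw [pderiv_mul, pderiv_X_of_ne (Fin.ne_of_val_ne (by (try simp only); omega)),
        pderiv_X_of_ne (Fin.ne_of_val_ne (by (try simp only); omega)), zero_mul, mul_zero, add_zero]
    · rw [pderiv_pow, pderiv_X_of_ne (Fin.ne_of_val_ne (by (try simp only); omega)), mul_zero]
    · exact map_zero _
  · exact fun h' => absurd (Finset.mem_univ j) h'

theorem pderiv_qpoly_self {j : Fin (m + 1)} (hj : (j : ℕ) % 2 = 0) (h : (j : ℕ) + 1 < m + 1) :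
    pderiv j (qpoly k m) = X ⟨j + 1, h⟩ := by
  rw [qpoly, map_sum, Finset.sum_eq_single j]
  · rw [qterm, if_pos hj, dif_pos h, pderiv_mul, pderiv_X_self,
      pderiv_X_of_ne (Fin.ne_of_val_ne (by simp)), mul_zero, one_mul, add_zero]
  · intro l _ hl
    rw [qterm]
    have hl' : (l : ℕ) ≠ j := fun e => hl (Fin.ext e)
    split_ifs with h1 h2
    · rw [pderiv_mul, pderiv_X_of_ne (Fin.ne_of_val_ne (by (try simp only); omega)),
        pderiv_X_of_ne (Fin.ne_of_val_ne (by (try simp only); omega)), zero_mul, mul_zero, add_zero]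
    · rw [pderiv_pow, pderiv_X_of_ne (Fin.ne_of_val_ne (by (try simp only); omega)), mul_zero]
    · exact map_zero _
  · exact fun h' => absurd (Finset.mem_univ j) h'

theorem qpoly_ne_zero : qpoly k m ≠ 0 := by
  intro h0
  rcases Nat.eq_zero_or_pos m with rfl | hm
  · have : qpoly k 0 = X 0 ^ 2 := by simp [qpoly, qterm]
    rw [this] at h0
    exact pow_ne_zero 2 (X_ne_zero _) h0
  · have h := pderiv_qpoly_next (k := k) (j := (0 : Fin (m + 1))) rfl (by simpa using hm)
    rw [h0, map_zero] at h
    exact X_ne_zero _ h.symm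

theorem pderiv_dehom (i : Fin (m + 1)) (p : ChartVar m i) (G : MvPolynomial (Fin (m + 1)) k) :
    pderiv p (dehom m k i G) = dehom m k i (pderiv p.1 G) := by
  induction G using MvPolynomial.induction_on with
  | C c => simp [MvPolynomial.algebraMap_eq]
  | add a b ha hb => rw [map_add, map_add, map_add, map_add, ha, hb]
  | mul_X a l ha =>
    rw [map_mul, pderiv_mul, pderiv_mul, map_add, map_mul, map_mul, ha]
    congr 1
    by_cases hl : l = i
    · subst hl
      rw [dehom_X_self, pderiv_X_of_ne (fun e => p.2 e.symm), map_zero]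
      simp
    · rw [show dehom m k i (X l) = X ⟨l, hl⟩ from dehom_X_ne m k i ⟨l, hl⟩]
      by_cases hlp : l = p.1
      · subst hlp
        rw [pderiv_X_self, pderiv_X_self, map_one]
      · rw [pderiv_X_of_ne hlp, pderiv_X_of_ne (fun e => hlp (congrArg Subtype.val e)), map_zero]

theorem smooth_chart (i : Fin (m + 1)) :
    Algebra.Smooth k (MvPolynomial (ChartVar m i) k ⧸ Ideal.span {dehom m k i (qpoly k m)}) := by
  classical
  by_cases hlast : (i : ℕ) % 2 = 0 ∧ (i : ℕ) = m
  · refine Groth.L21.SmoothChart.smooth_of_unit _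
      (fun p => if (p.1 : ℕ) % 2 = 0 then -X p else 0) ⟨1, ?_⟩
    have key : ∀ p : ChartVar m i, pderiv p (dehom m k i (qpoly k m)) * (if (p.1 : ℕ) % 2 = 0 then -X p else 0) =
        -dehom m k i (qterm k m p.1) := by
      intro p
      split_ifs with hp
      · have hlt : (p.1 : ℕ) + 1 < m + 1 := by
          have : (p.1 : ℕ) ≠ i := fun e => p.2 (Fin.ext e)
          have := p.1.2
          omega
        rw [pderiv_dehom, pderiv_qpoly_self hp hlt, qterm, if_pos hp, dif_pos hlt, map_mul, dehom_X_ne,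
          mul_neg, mul_comm]
      · rw [qterm, if_neg hp, map_zero, neg_zero, mul_zero]
    rw [Finset.sum_congr rfl fun p _ => key p, Finset.sum_neg_distrib]
    have hsum : dehom m k i (qpoly k m) =
        dehom m k i (qterm k m i) + ∑ p : ChartVar m i, dehom m k i (qterm k m p.1) := by
      rw [qpoly, map_sum, Fintype.sum_eq_add_sum_compl i]
      congr 1
      exact Finset.sum_subtype _ (fun x => by simp) _
    have hi : dehom m k i (qterm k m i) = 1 := by
      rw [qterm, if_pos hlast.1, dif_neg (by omega), map_pow, dehom_X_self, one_pow]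
    rw [hsum, hi]
    ring
  · obtain ⟨p, hp, hpd⟩ : ∃ p : Fin (m + 1), p ≠ i ∧ pderiv p (qpoly k m) = X i := by
      have hi2 := i.2
      by_cases he : (i : ℕ) % 2 = 0
      · have hlt : (i : ℕ) + 1 < m + 1 := by
          have : (i : ℕ) ≠ m := fun e => hlast ⟨he, e⟩
          omega
        exact ⟨⟨i + 1, hlt⟩, Fin.ne_of_val_ne (by simp), pderiv_qpoly_next he hlt⟩
      · let j : Fin (m + 1) := ⟨i - 1, by omega⟩
        have hj : (j : ℕ) % 2 = 0 := by simp only [j]; omega
        have hji : (j : ℕ) + 1 = i := by simp only [j]; omega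
        have h := pderiv_qpoly_self (k := k) hj (by omega)
        refine ⟨j, Fin.ne_of_val_ne (by omega), h.trans (congrArg X (Fin.ext hji))⟩
    refine Groth.L21.SmoothChart.smooth_of_unit _ (Pi.single ⟨p, hp⟩ 1) ⟨0, ?_⟩
    rw [Finset.sum_eq_single (⟨p, hp⟩ : ChartVar m i)]
    · rw [Pi.single_eq_same, mul_one, pderiv_dehom, hpd, dehom_X_self, sub_self, mul_zero]
    · exact fun q _ hq => by rw [Pi.single_eq_of_ne hq, mul_zero]
    · exact fun h' => absurd (Finset.mem_univ _) h'

theorem nondegQuad_qform : LefPen.NondegQuad k (qform k m) := by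
  refine ⟨qpoly_ne_zero, ?_⟩
  rcases Nat.eq_zero_or_pos m with h | h
  · exact Or.inl h
  · exact Or.inr ((Groth.L21.PlaneCurve.smooth_hyp_iff _).2 smooth_chart)

end Groth.L05.OrdQuad
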