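import Groth.Agent.L05.OrdQuad.Chart
import Groth.Agent.L05.OrdQuad.Compl
import Groth.Agent.L05.OrdQuad.Quad
import Groth.Agent.L14.Quot.RelDim
import Groth.Agent.L08.Cube.SmoothStalk
import Groth.Agent.L21.Nodal.Node

/-! A hypersurface section with an ordinary quadratic singularity at a given point. -/

set_option autoImplicit false
set_option linter.style.haveILetI false
set_option backward.isDefEq.respectTransparency false
set_option backward.isDefEq.respectTransparency.types false
set_option maxHeartbeats 1000000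

universe u

open CategoryTheory CategoryTheory.Limits AlgebraicGeometry TopologicalSpace MvPolynomial IsLocalRing

noncomputable section

namespace Groth.L05.OrdQuad

variable {k : Type u} [Field k] [IsAlgClosed k] {r : ℕ} {X : Scheme.{u}} (i : X ⟶ CohB1.ProjSpace r k)
  [IsClosedImmersion i] (a : Fin (r + 1)) (x₀ : X) (hxa : i x₀ ∈ LefPen.chart r k a)

theorem exists_residue (hx₀ : IsClosed ({x₀} : Set X)) (z : X.presheaf.stalk x₀) :
    ∃ c : k, z - σ i a x₀ hxa (C c) ∈ maximalIdeal (X.presheaf.stalk x₀) := by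
  letI : X.Over (Spec (CommRingCat.of k)) := ⟨i ≫ CohB1.ProjSpace.toSpec r k⟩
  haveI : LocallyOfFiniteType (X ↘ Spec (CommRingCat.of k)) :=
    (inferInstance : LocallyOfFiniteType (i ≫ CohB1.ProjSpace.toSpec r k))
  obtain ⟨c, hc⟩ := Groth.L21.Nodal.resMap_surjective (k := k) x₀ hx₀ (X.residue x₀ z)
  refine ⟨c, ?_⟩
  rw [← IsLocalRing.ker_residue, RingHom.mem_ker, map_sub, sub_eq_zero, σ_C]
  exact hc.symm

theorem exists_coords (hx₀ : IsClosed ({x₀} : Set X)) :
    ∃ c : Fin (r + 1) → k, Ideal.span (Set.range fun j => σ i a x₀ hxa (MvPolynomial.X j - C (c j))) =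
      maximalIdeal (X.presheaf.stalk x₀) := by
  choose c hc using fun j => exists_residue i a x₀ hxa hx₀ (σ i a x₀ hxa (MvPolynomial.X j))
  refine ⟨c, ?_⟩
  have hle : Ideal.span (Set.range fun j => σ i a x₀ hxa (MvPolynomial.X j - C (c j))) ≤
      maximalIdeal (X.presheaf.stalk x₀) := Ideal.span_le.2 (by
    rintro _ ⟨j, rfl⟩
    simp only [map_sub]
    exact hc j)
  refine le_antisymm hle fun z hz => ?_
  set J := Ideal.span (Set.range fun j => σ i a x₀ hxa (MvPolynomial.X j - C (c j)))
  have heval : ∀ g : MvPolynomial (Fin (r + 1)) k, σ i a x₀ hxa g - σ i a x₀ hxa (C (eval c g)) ∈ J := by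
    intro g
    induction g using MvPolynomial.induction_on with
    | C e => simp
    | add p q hp hq =>
      have := J.add_mem hp hq
      convert this using 1
      simp only [map_add]
      ring
    | mul_X p j hp =>
      have h2 : σ i a x₀ hxa (MvPolynomial.X j - C (c j)) ∈ J := Ideal.subset_span ⟨j, rfl⟩
      have := J.add_mem (J.mul_mem_right (σ i a x₀ hxa (MvPolynomial.X j)) hp)
        (J.mul_mem_left (σ i a x₀ hxa (C (eval c p))) h2)
      convert this using 1
      simp only [map_mul, map_sub, eval_X]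
      ring
  obtain ⟨g, s, hs, hzs⟩ := exists_fraction i a x₀ hxa z
  have hg : σ i a x₀ hxa g ∈ maximalIdeal (X.presheaf.stalk x₀) := hzs ▸ Ideal.mul_mem_right _ _ hz
  have h0 : eval c g = 0 := by
    by_contra hne
    have h1 : σ i a x₀ hxa (C (eval c g)) ∈ maximalIdeal (X.presheaf.stalk x₀) := by
      have := (maximalIdeal (X.presheaf.stalk x₀)).sub_mem hg (hle (heval g))
      rwa [sub_sub_cancel] at this
    exact (mem_nonunits_iff.1 ((mem_maximalIdeal _).1 h1))
      (((IsUnit.mk0 _ hne).map C).map (σ i a x₀ hxa))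
  have h3 := heval g
  rw [h0, map_zero, map_zero, sub_zero, ← hzs] at h3
  exact (Ideal.mul_unit_mem_iff_mem J hs).1 h3

theorem main (n : ℕ) (hn : 1 ≤ n) [SmoothOfRelativeDimension n (i ≫ CohB1.ProjSpace.toSpec r k)]
    (hx₀ : IsClosed ({x₀} : Set X)) (d : ℕ) (hd : 2 ≤ d) :
    ∃ (H : LefPen.Form r k d) (y : LefPen.Sec i ({H} : Set (LefPen.Form r k d))),
      LefPen.secι i ({H} : Set (LefPen.Form r k d)) y = x₀ ∧
      LefPen.IsOrdQuadSing k (n - 1) (LefPen.secToSpec i ({H} : Set (LefPen.Form r k d))) y := by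
  classical
  obtain ⟨m, rfl⟩ : ∃ m, n = m + 1 := ⟨n - 1, by omega⟩
  haveI : LocallyOfFiniteType i := inferInstance
  haveI : IsLocallyNoetherian X := LocallyOfFiniteType.isLocallyNoetherian i
  obtain ⟨a, hxa⟩ : ∃ a, i x₀ ∈ LefPen.chart r k a := Groth.L21.PlaneCurve.exists_mem_chart _
  haveI : Smooth (i ≫ CohB1.ProjSpace.toSpec r k) := SmoothOfRelativeDimension.smooth (m + 1) _
  haveI : IsRegularLocalRing (X.presheaf.stalk x₀) :=
    Groth.L08.Cube.isRegularLocalRing_of_smooth (i ≫ CohB1.ProjSpace.toSpec r k) x₀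
  have hfin := Groth.L14.Quot.finrank_cotangent_of_smoothOfRelativeDimension
    (i ≫ CohB1.ProjSpace.toSpec r k) (m + 1) x₀ hx₀
  have hdim : ringKrullDim (X.presheaf.stalk x₀) = ((m + 1 : ℕ) : WithBot ℕ∞) := by
    rw [← (IsRegularLocalRing.iff_finrank_cotangentSpace _).1 inferInstance, hfin]
  obtain ⟨c, hc⟩ := exists_coords i a x₀ hxa hx₀
  set A := X.presheaf.stalk x₀
  let T : Fin (r + 1) → maximalIdeal A := fun j => ⟨σ i a x₀ hxa (MvPolynomial.X j - C (c j)),
    hc.le (Ideal.subset_span ⟨j, rfl⟩)⟩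
  have hspanT : Submodule.span A (Set.range T) = ⊤ := by
    refine Submodule.map_injective_of_injective (maximalIdeal A).injective_subtype ?_
    rw [Submodule.map_top, Submodule.range_subtype, Submodule.map_span, ← Set.range_comp]
    exact hc
  have hspanV : Submodule.span (ResidueField A) (Set.range fun j => (maximalIdeal A).toCotangent (T j)) = ⊤ := by
    rw [show (Set.range fun j => (maximalIdeal A).toCotangent (T j)) = (maximalIdeal A).toCotangent '' Set.range T
      from (Set.range_comp _ _)]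
    exact CotangentSpace.span_image_eq_top_iff.2 hspanT
  obtain ⟨f, hfmem, hfspan, -⟩ := Submodule.exists_fun_fin_finrank_span_eq (ResidueField A)
    (Set.range fun j => (maximalIdeal A).toCotangent (T j))
  have hrank : Module.finrank (ResidueField A)
      (Submodule.span (ResidueField A) (Set.range fun j => (maximalIdeal A).toCotangent (T j))) = m + 1 := by
    rw [hspanV, finrank_top]
    exact hfin
  choose g hg using hfmem
  let sel : Fin (m + 1) → Fin (r + 1) := fun l => g (Fin.cast hrank.symm l)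
  let t : Fin (m + 1) → A := fun l => σ i a x₀ hxa (MvPolynomial.X (sel l) - C (c (sel l)))
  have ht : Ideal.span (Set.range t) = maximalIdeal A := by
    have h1 : Submodule.span A (Set.range fun l => T (sel l)) = ⊤ := by
      rw [← CotangentSpace.span_image_eq_top_iff, ← Set.range_comp, eq_top_iff, ← hspanV, ← hfspan]
      refine Submodule.span_mono ?_
      rintro _ ⟨l, rfl⟩
      refine ⟨Fin.cast hrank l, ?_⟩
      simp only [Function.comp_apply, sel, Fin.cast_cast, Fin.cast_eq_self]
      exact hg l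
    have h2 := congrArg (Submodule.map (maximalIdeal A).subtype) h1
    rw [Submodule.map_top, Submodule.range_subtype, Submodule.map_span, ← Set.range_comp] at h2
    exact h2
  let q := qpoly k m
  let lin : Fin (m + 1) → MvPolynomial (Fin (r + 1)) k := fun l =>
    MvPolynomial.X (sel l) - C (c (sel l)) * MvPolynomial.X a
  have hlin : ∀ l, (lin l).IsHomogeneous 1 := fun l =>
    (isHomogeneous_X k _).sub (isHomogeneous_C_mul_X _ _)
  let H : LefPen.Form r k d := ⟨MvPolynomial.X a ^ (d - 2) * aeval lin q, (mem_homogeneousSubmodule d _).2 (by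
    have h := ((isHomogeneous_X k a).pow (d - 2)).mul ((qpoly_homogeneous k m).aeval lin hlin)
    have he : 1 * (d - 2) + 1 * 2 = d := by omega
    rw [he] at h
    exact h)⟩
  let F₀ : k →+* A := (σ i a x₀ hxa).comp C
  have hH : σ i a x₀ hxa H.1 = eval₂ F₀ t q := by
    show σ i a x₀ hxa (MvPolynomial.X a ^ (d - 2) * aeval lin q) = _
    rw [map_mul, map_pow, σ_X_self, one_pow, one_mul, map_aeval]
    refine congrArg (fun v => eval₂Hom F₀ v q) (funext fun l => ?_)
    simp only [lin, t, map_sub, map_mul, σ_X_self, mul_one]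
  have hHm : σ i a x₀ hxa H.1 ∈ maximalIdeal A := by
    rw [hH, show eval₂ F₀ t q = eval₂Hom F₀ t q from rfl, show q = qpoly k m from rfl, qpoly, map_sum]
    refine Submodule.sum_mem _ fun j _ => ?_
    have htm : ∀ l, t l ∈ maximalIdeal A := fun l => ht.le (Ideal.subset_span ⟨l, rfl⟩)
    rw [qterm]
    split_ifs
    · rw [map_mul, eval₂Hom_X', eval₂Hom_X']
      exact Ideal.mul_mem_right _ _ (htm _)
    · rw [map_pow, eval₂Hom_X']
      exact Ideal.pow_mem_of_mem _ (htm _) 2 two_pos
    · rw [map_zero]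
      exact zero_mem _
  obtain ⟨y, hy⟩ := exists_mem_secι i a x₀ hxa H hHm
  obtain ⟨p, hp, hker, hpc⟩ := σ_form_ker_secι i a x₀ hxa H y hy
  haveI : IsLocallyNoetherian (LefPen.Sec i ({H} : Set (LefPen.Form r k d))) :=
    LocallyOfFiniteType.isLocallyNoetherian (LefPen.secι i ({H} : Set (LefPen.Form r k d)))
  have hF : Function.Surjective ((residue A).comp F₀) := fun z => by
    obtain ⟨z, rfl⟩ := residue_surjective z
    obtain ⟨e, he⟩ := exists_residue i a x₀ hxa hx₀ z
    exact ⟨e, ((sub_eq_zero.1 ((map_sub _ _ _).symm.trans ((residue_eq_zero_iff _).2 he)))).symm⟩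
  obtain ⟨e, he⟩ := exists_completion_equiv F₀ hF t ht hdim q p hp (by rw [hker, hH])
  refine ⟨H, y, hy, ?_, (q : MvPowerSeries (Fin (m + 1)) k), qform k m, e, fun c' => ?_, ?_, ?_, nondegQuad_qform⟩
  · have : ({y} : Set (LefPen.Sec i ({H} : Set (LefPen.Form r k d)))) =
        (LefPen.secι i ({H} : Set (LefPen.Form r k d))) ⁻¹' {x₀} := by
      ext z
      simp only [Set.mem_singleton_iff, Set.mem_preimage]
      exact ⟨fun h => h ▸ hy, fun h =>
        (LefPen.secι i ({H} : Set (LefPen.Form r k d))).isClosedEmbedding.injective (h.trans hy.symm)⟩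
    rw [this]
    exact hx₀.preimage (LefPen.secι i ({H} : Set (LefPen.Form r k d))).continuous
  · rw [← hpc]
    exact he c'
  · intro e' he'
    rw [MvPolynomial.coeff_coe]
    exact (qpoly_homogeneous k m).coeff_eq_zero (by omega)
  · intro e' _
    exact (MvPolynomial.coeff_coe _ _).symm

end Groth.L05.OrdQuad
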