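import Groth.Agent.L18.CIProjChart
import Groth.Agent.L22.Ideal
import Groth.Agent.L14.RegImmStalk.Stalk

/-! Local rings of closed subschemes of projective space through dehomogenisation. -/

set_option autoImplicit false
set_option linter.style.haveILetI false
set_option backward.isDefEq.respectTransparency false
set_option backward.isDefEq.respectTransparency.types false

universe u

open CategoryTheory CategoryTheory.Limits AlgebraicGeometry TopologicalSpace MvPolynomial Opposite IsLocalRing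

noncomputable section

namespace Groth.L05.OrdQuad

open Groth.L18.CIProj (deh deh_surjective deh_form)

variable {k : Type u} [Field k] {r : ℕ}

theorem deh_C (a : Fin (r + 1)) (c : k) : deh a (C c : MvPolynomial (Fin (r + 1)) k) =
    ((CohB1.ProjSpace r k).presheaf.map (homOfLE (le_top : LefPen.chart r k a ≤ ⊤)).op).hom
      (Coh.toGlobal (CohB1.ProjSpace.toSpec r k) c) := by
  set cc := Groth.L16.ProjSpace.chart r k a with hcc
  have hW : (⊤ : (Spec _).Opens) ≤ cc ⁻¹ᵁ LefPen.chart r k a := fun z _ =>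
    (Groth.L16.ProjSpace.opensRange_chart r k a).le ⟨z, rfl⟩
  have hinj : Function.Injective (cc.appLE (LefPen.chart r k a) ⊤ hW).hom := by
    have h : cc.opensRange = LefPen.chart r k a := Groth.L16.ProjSpace.opensRange_chart r k a
    have hb : ∀ (V : (CohB1.ProjSpace r k).Opens) (e : (⊤ : (Spec _).Opens) ≤ cc ⁻¹ᵁ V), V = cc ''ᵁ ⊤ →
        Function.Injective (cc.appLE V ⊤ e).hom := by
      rintro V e rfl
      rw [← Scheme.Hom.appIso_hom']
      exact (ConcreteCategory.bijective_of_isIso (cc.appIso ⊤).hom).1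
    exact hb _ hW (by rw [cc.image_top_eq_opensRange, h])
  refine hinj ?_
  let G : LefPen.Form r k 0 := ⟨C c, (mem_homogeneousSubmodule 0 _).2 (isHomogeneous_C _ c)⟩
  have h1 : cc.appLE (LefPen.chart r k a) ⊤ hW (deh a G.1) = _ :=
    (congrArg _ (deh_form G a)).trans (Groth.L21.PlaneCurve.chart_appLE_dehom G a hW)
  refine h1.trans ?_
  rw [Groth.L16.ProjSpace.dehom, aeval_C, MvPolynomial.algebraMap_eq]
  show _ = ((((CohB1.ProjSpace.toSpec r k).appTop ≫
    (CohB1.ProjSpace r k).presheaf.map (homOfLE (le_top : LefPen.chart r k a ≤ ⊤)).op) ≫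
      cc.appLE (LefPen.chart r k a) ⊤ hW).hom ((Scheme.ΓSpecIso (CommRingCat.of k)).inv.hom c))
  have h2 : ((CohB1.ProjSpace.toSpec r k).appTop ≫
    (CohB1.ProjSpace r k).presheaf.map (homOfLE (le_top : LefPen.chart r k a ≤ ⊤)).op) ≫
      cc.appLE (LefPen.chart r k a) ⊤ hW = (Spec.map (CommRingCat.ofHom
        (C : k →+* MvPolynomial (Groth.L16.ProjSpace.ChartVar r a) k))).appTop := by
    rw [Category.assoc, Scheme.Hom.map_appLE]
    rw [← Groth.L16.ProjSpace.chart_toSpec r k a, ← hcc, Scheme.Hom.comp_appTop]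
    refine congrArg (_ ≫ ·) ?_
    exact (Scheme.Hom.app_eq_appLE _).symm
  rw [h2]
  exact congr($(Scheme.ΓSpecIso_inv_naturality (CommRingCat.ofHom
    (C : k →+* MvPolynomial (Groth.L16.ProjSpace.ChartVar r a) k))) c)

variable {X : Scheme.{u}} (i : X ⟶ CohB1.ProjSpace r k) (a : Fin (r + 1)) (x₀ : X)
  (hxa : i x₀ ∈ LefPen.chart r k a)

/-- The map from the homogeneous coordinate ring to a local ring, by dehomogenising. -/
def σ : MvPolynomial (Fin (r + 1)) k →+* X.presheaf.stalk x₀ :=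
  (X.presheaf.germ (i ⁻¹ᵁ LefPen.chart r k a) x₀ hxa).hom.comp
    ((i.app (LefPen.chart r k a)).hom.comp (deh a))

theorem σ_C (c : k) : σ i a x₀ hxa (C c) = LefPen.toStalk k (i ≫ CohB1.ProjSpace.toSpec r k) x₀ c := by
  show (X.presheaf.germ _ x₀ hxa).hom ((i.app _).hom (deh a (C c))) =
    (X.presheaf.germ ⊤ x₀ trivial).hom (Coh.toGlobal (i ≫ CohB1.ProjSpace.toSpec r k) c)
  rw [deh_C]
  refine (congrArg (X.presheaf.germ _ x₀ hxa).hom
    (congr($(i.naturality (homOfLE (le_top : LefPen.chart r k a ≤ ⊤)).op)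
      (Coh.toGlobal (CohB1.ProjSpace.toSpec r k) c)))).trans ?_
  exact X.presheaf.germ_res_apply _ x₀ hxa _

theorem σ_X_self : σ i a x₀ hxa (MvPolynomial.X a) = 1 := by
  have h : deh (k := k) a (MvPolynomial.X a) = 1 := by
    show (Proj.awayToSection _ _).hom (Groth.L16.ProjSpace.toAway r k a (Groth.L16.ProjSpace.dehom r k a (MvPolynomial.X a))) = 1
    rw [Groth.L16.ProjSpace.dehom_X_self, map_one, map_one]
  show (X.presheaf.germ _ x₀ hxa).hom ((i.app _).hom (deh a (MvPolynomial.X a))) = 1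
  rw [h, map_one, map_one]

variable [IsClosedImmersion i]

theorem isAffineOpen_preimage_chart : IsAffineOpen (i ⁻¹ᵁ LefPen.chart r k a) :=
  (Groth.L21.PlaneCurve.isAffineOpen_chart a).preimage i

theorem exists_fraction (z : X.presheaf.stalk x₀) :
    ∃ g s : MvPolynomial (Fin (r + 1)) k, IsUnit (σ i a x₀ hxa s) ∧
      z * σ i a x₀ hxa s = σ i a x₀ hxa g := by
  letI : Algebra Γ(X, i ⁻¹ᵁ LefPen.chart r k a) (X.presheaf.stalk x₀) :=
    (X.presheaf.germ (i ⁻¹ᵁ LefPen.chart r k a) x₀ hxa).hom.toAlgebra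
  haveI := (isAffineOpen_preimage_chart i a).isLocalization_stalk ⟨x₀, hxa⟩
  obtain ⟨⟨g', s'⟩, h⟩ := IsLocalization.surj
    ((isAffineOpen_preimage_chart i a).primeIdealOf ⟨x₀, hxa⟩).asIdeal.primeCompl z
  have hsurj : Function.Surjective ((i.app (LefPen.chart r k a)).hom.comp (deh a)) :=
    (Groth.L07.RegImmComp.app_surjective i (LefPen.chart r k a) (Groth.L21.PlaneCurve.isAffineOpen_chart a)
      (IsZariskiLocalAtTarget.restrict (P := @IsClosedImmersion) inferInstance _)).comp (deh_surjective a)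
  obtain ⟨g, hg⟩ := hsurj g'
  obtain ⟨s, hs⟩ := hsurj s'.1
  refine ⟨g, s, ?_, ?_⟩
  · show IsUnit (algebraMap _ (X.presheaf.stalk x₀) (((i.app _).hom.comp (deh a)) s))
    rw [hs]
    exact IsLocalization.map_units _ s'
  · show z * algebraMap _ _ (((i.app _).hom.comp (deh a)) s) = algebraMap _ _ (((i.app _).hom.comp (deh a)) g)
    rw [hs, hg]
    exact h

theorem σ_form_ker_secι {d : ℕ} (H : LefPen.Form r k d) (y : LefPen.Sec i ({H} : Set (LefPen.Form r k d)))
    (hy : LefPen.secι i ({H} : Set (LefPen.Form r k d)) y = x₀) :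
    ∃ p : X.presheaf.stalk x₀ →+* (LefPen.Sec i ({H} : Set (LefPen.Form r k d))).presheaf.stalk y,
      Function.Surjective p ∧ RingHom.ker p = Ideal.span {σ i a x₀ hxa H.1} ∧
      ∀ c : k, p (σ i a x₀ hxa (C c)) = LefPen.toStalk k (LefPen.secToSpec i {H}) y c := by
  subst hy
  refine ⟨((LefPen.secι i {H}).stalkMap y).hom, (LefPen.secι i {H}).stalkMap_surjective y, ?_, fun c => ?_⟩
  · rw [Groth.L14.RegImmStalk.ker_stalkMap (LefPen.secι i {H}) (isAffineOpen_preimage_chart i a)
      (IsZariskiLocalAtTarget.restrict (P := @IsClosedImmersion) inferInstance _) y hxa]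
    have h1 : RingHom.ker ((LefPen.secι i {H}).app (i ⁻¹ᵁ LefPen.chart r k a)).hom =
        Ideal.span {(i.app (LefPen.chart r k a)).hom (LefPen.dehom H a)} := by
      refine ((LefPen.secIdeal i {H}).ker_subschemeι_app ⟨_, isAffineOpen_preimage_chart i a⟩).trans ?_
      rw [LefPen.secIdeal, iSup_singleton,
        Groth.L22.Ideals.comap_ideal i _ ⟨_, Groth.L21.PlaneCurve.isAffineOpen_chart a⟩ ⟨_, _⟩ le_rfl,
        Groth.L21.PlaneCurve.hypIdeal_chart, Ideal.map_span, Set.image_singleton,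
        Scheme.Hom.appLE_eq_app]
    rw [h1, Ideal.map_span, Set.image_singleton, ← deh_form]
    rfl
  · rw [σ_C]
    show _ = LefPen.toStalk k (LefPen.secι i {H} ≫ i ≫ CohB1.ProjSpace.toSpec r k) y c
    show ((LefPen.secι i {H}).stalkMap y).hom ((X.presheaf.germ ⊤ _ trivial).hom _) = _
    rw [Scheme.Hom.germ_stalkMap_apply]
    rfl

theorem exists_mem_secι {d : ℕ} (H : LefPen.Form r k d) (h : σ i a x₀ hxa H.1 ∈ maximalIdeal (X.presheaf.stalk x₀)) :
    ∃ y : LefPen.Sec i ({H} : Set (LefPen.Form r k d)), LefPen.secι i ({H} : Set (LefPen.Form r k d)) y = x₀ := by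
  have hmem : x₀ ∈ (LefPen.secIdeal i ({H} : Set (LefPen.Form r k d))).support := by
    rw [Scheme.IdealSheafData.mem_support_iff_of_mem (U := ⟨_, isAffineOpen_preimage_chart i a⟩) hxa,
      LefPen.secIdeal, iSup_singleton,
      Groth.L22.Ideals.comap_ideal i _ ⟨_, Groth.L21.PlaneCurve.isAffineOpen_chart a⟩ ⟨_, _⟩ le_rfl,
      Groth.L21.PlaneCurve.hypIdeal_chart, Ideal.map_span, Set.image_singleton,
      Scheme.Hom.appLE_eq_app, Scheme.zeroLocus_span, ← deh_form]
    refine (Scheme.mem_zeroLocus_iff _ _ x₀).2 fun f hf => ?_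
    rw [Set.mem_singleton_iff.1 hf]
    intro hb
    exact (mem_nonunits_iff.1 ((mem_maximalIdeal _).1 h)) ((X.mem_basicOpen _ x₀ hxa).1 hb)
  have h2 : x₀ ∈ Set.range (LefPen.secι i ({H} : Set (LefPen.Form r k d))) := by
    rw [Scheme.IdealSheafData.range_subschemeι]
    exact hmem
  exact h2

end Groth.L05.OrdQuad
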